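import Cfsg.Agent.TwoF.Gen.ASmall
import Cfsg.Agent.TwoF.Gen.BHeis

/-!
# TwoF XL: abstract tools (equal fixed spaces, averaging, transitive normalisers, Heisenberg bound) (helper2)
-/

set_option autoImplicit false
set_option linter.unusedSectionVars false

namespace Cfsg.Agent.TwoF.XL

open Module Gen
open scoped commutatorElement

variable {k : Type*} [Field k] {Y : Type*} [Group Y] {V : Type*} [AddCommGroup V] [Module k V]
  {ρ : Representation k Y V} [FiniteDimensional k V]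

/-! ### equal fixed spaces -/

theorem fx_eq_of_cod_le {A B : Subgroup Y} (h : B ≤ A) (hc : cod ρ A ≤ cod ρ B) : fx ρ A = fx ρ B := by
  have h1 := cod_add (ρ := ρ) A
  have h2 := cod_add (ρ := ρ) B
  exact Submodule.eq_of_le_of_finrank_le (fx_anti h) (by omega)

/-- the closure of `B`: everything that fixes the fixed vectors of `B` -/
def cl (ρ : Representation k Y V) (B : Subgroup Y) : Subgroup Y := cen ρ (fx ρ B)

theorem le_cl (B : Subgroup Y) : B ≤ cl ρ B := le_cen_iff.2 le_rfl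

theorem fx_cl (B : Subgroup Y) : fx ρ (cl ρ B) = fx ρ B :=
  le_antisymm (fx_anti (le_cl B)) (le_cen_iff.1 le_rfl)

theorem cod_cl (B : Subgroup Y) : cod ρ (cl ρ B) = cod ρ B := by rw [cod, cod, fx_cl]

theorem le_cl_of_cod_le {A B : Subgroup Y} (h : B ≤ A) (hc : cod ρ A ≤ cod ρ B) : A ≤ cl ρ B :=
  le_cen_iff.2 (fx_eq_of_cod_le h hc).ge

theorem cl_eq_of_cod_le {A B : Subgroup Y} (h : B ≤ A) (hc : cod ρ A ≤ cod ρ B) : cl ρ B = cl ρ A := by
  rw [cl, cl, fx_eq_of_cod_le h hc]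

theorem conj_mem_cl {B : Subgroup Y} {x a : Y} (hx : x ∈ Subgroup.normalizer (B : Set Y)) (ha : a ∈ cl ρ B) :
    x * a * x⁻¹ ∈ cl ρ B := mem_cen.2 fun v hv => by
  have h1 : ρ x⁻¹ v ∈ fx ρ B := inv_fx le_rfl _ (inv_mem hx) v hv
  rw [rho_mul, rho_mul, mem_cen.1 ha _ h1, rho_apply_inv]

theorem mem_normalizer_zpowers_of_comm {x t : Y} (h : x * t = t * x) :
    x ∈ Subgroup.normalizer (Subgroup.zpowers t : Set Y) :=
  Subgroup.centralizer_le_normalizer _ fun _ ⟨i, e⟩ => e ▸ (Commute.zpow_left h.symm i).eq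

/-- the form in which the trick is used: `t ∈ A`, `c(A) ≤ c(t)`; the closure of `A` is normalised by `C(t)` -/
theorem conj_mem_cl_of_comm {A : Subgroup Y} {t x a : Y} (ht : t ∈ A) (hc : cod ρ A ≤ cod ρ (Subgroup.zpowers t))
    (hx : x * t = t * x) (ha : a ∈ cl ρ A) : x * a * x⁻¹ ∈ cl ρ A := by
  rw [← cl_eq_of_cod_le ((Subgroup.zpowers_le).2 ht) hc] at ha ⊢
  exact conj_mem_cl (mem_normalizer_zpowers_of_comm hx) ha

theorem cod_le_of_mem_cl {A : Subgroup Y} {a : Y} (ha : a ∈ cl ρ A) : cod ρ (Subgroup.zpowers a) ≤ cod ρ A :=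
  cod_cl (ρ := ρ) A ▸ cod_mono ((Subgroup.zpowers_le).2 ha)

theorem cod_le_of_le_cl {A B : Subgroup Y} (h : B ≤ cl ρ A) : cod ρ B ≤ cod ρ A :=
  cod_cl (ρ := ρ) A ▸ cod_mono h

theorem cod_le_of_mem {A : Subgroup Y} {a : Y} (ha : a ∈ A) : cod ρ (Subgroup.zpowers a) ≤ cod ρ A :=
  cod_mono ((Subgroup.zpowers_le).2 ha)

theorem cod_pow_le (a : Y) (n : ℕ) : cod ρ (Subgroup.zpowers (a ^ n)) ≤ cod ρ (Subgroup.zpowers a) :=
  cod_le_of_mem (pow_mem (Subgroup.mem_zpowers a) n)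

/-- a subgroup of `⟨a, a ^ x⟩` -/
theorem cod_le_two_mul {a x : Y} {B : Subgroup Y} (h : ∀ H : Subgroup Y, a ∈ H → x * a * x⁻¹ ∈ H → B ≤ H) :
    cod ρ B ≤ 2 * cod ρ (Subgroup.zpowers a) := by
  have h1 := cod_sup_le (ρ := ρ) (Subgroup.zpowers a) (Subgroup.zpowers (x * a * x⁻¹))
  rw [cod_zpowers_conj] at h1
  have h2 := cod_mono (ρ := ρ) (h (Subgroup.zpowers a ⊔ Subgroup.zpowers (x * a * x⁻¹))
    (Subgroup.mem_sup_left (Subgroup.mem_zpowers _)) (Subgroup.mem_sup_right (Subgroup.mem_zpowers _)))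
  omega

/-! ### characters of elementary abelian groups -/

section Chars

variable {R : Subgroup Y} [Finite R] {r : ℕ}

omit [FiniteDimensional k V] in
theorem mem_range_char (hr : r.Prime) (he : ∀ g ∈ R, g ^ r = 1) {χ : R →* kˣ} (hχ : χ ≠ 1) {ζ : kˣ}
    (hζ : ζ ^ r = 1) : ζ ∈ χ.range := by
  obtain ⟨z, hz⟩ : ∃ z, χ z ≠ 1 := by
    by_contra e
    push Not at e
    exact hχ (MonoidHom.ext e)
  have : NeZero r := ⟨hr.ne_zero⟩
  have h1 : IsPrimitiveRoot (χ z) r := orderOf_char_eq hr (he _ z.2) hz ▸ IsPrimitiveRoot.orderOf (χ z)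
  obtain ⟨i, -, hi⟩ := h1.eq_pow_of_mem_rootsOfUnity ((mem_rootsOfUnity r ζ).2 hζ)
  exact ⟨z ^ i, by rw [map_pow, hi]⟩

omit [FiniteDimensional k V] in
theorem card_ker_char (hr : r.Prime) (he : ∀ g ∈ R, g ^ r = 1) {χ : R →* kˣ} (hχ : χ ≠ 1) :
    Nat.card χ.ker * r = Nat.card R := by
  obtain ⟨z, hz⟩ : ∃ z, χ z ≠ 1 := by
    by_contra e
    push Not at e
    exact hχ (MonoidHom.ext e)
  have : NeZero r := ⟨hr.ne_zero⟩
  have h0 := orderOf_char_eq hr (he _ z.2) hz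
  have h1 : IsPrimitiveRoot (χ z) r := h0 ▸ IsPrimitiveRoot.orderOf (χ z)
  have h2 : χ.range = Subgroup.zpowers (χ z) := by
    refine le_antisymm ?_ ((Subgroup.zpowers_le).2 ⟨z, rfl⟩)
    rintro _ ⟨g, rfl⟩
    obtain ⟨i, -, hi⟩ := h1.eq_pow_of_mem_rootsOfUnity ((mem_rootsOfUnity r (χ g)).2
      (by rw [← map_pow, show g ^ r = 1 from Subtype.ext (he _ g.2), map_one]))
    exact hi ▸ pow_mem (Subgroup.mem_zpowers _) i
  rw [← Subgroup.card_mul_index χ.ker, Subgroup.index_ker, h2, Nat.card_zpowers, h0]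

omit [FiniteDimensional k V] in
open Classical in
theorem card_fiber_char [Fintype R] (hr : r.Prime) (he : ∀ g ∈ R, g ^ r = 1) {χ : R →* kˣ} (hχ : χ ≠ 1) {ζ : kˣ}
    (hζ : ζ ^ r = 1) : (Finset.univ.filter fun g : R => χ g = ζ).card * r = Nat.card R := by
  rw [MonoidHom.card_fiber_eq_of_mem_range χ (mem_range_char hr he hχ hζ) (y := 1) ⟨1, map_one χ⟩,
    ← card_ker_char hr he hχ]
  congr 1
  rw [← Fintype.card_subtype, ← Nat.card_eq_fintype_card]
  rfl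

theorem avg_closed [IsAlgClosed k] [Fintype R] (hr : r.Prime) (hk : (r : k) ≠ 0)
    (hc : ∀ a ∈ R, ∀ b ∈ R, a * b = b * a) (he : ∀ g ∈ R, g ^ r = 1) :
    r * ∑ g : R, cod ρ (Subgroup.zpowers (g : Y)) = (r - 1) * Nat.card R * cod ρ R := by
  classical
  have : Fact r.Prime := ⟨hr⟩
  have := finite_char k R
  have : Fintype (R →* kˣ) := Fintype.ofFinite _
  have hR : (Nat.card R : k) ≠ 0 := by
    obtain ⟨n, hn⟩ := (elemAb_isPGroup (elemAb_of hc he)).exists_card_eq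
    rw [hn, Nat.cast_pow]
    exact pow_ne_zero _ hk
  have h1 : ∀ g : R, cod ρ (Subgroup.zpowers (g : Y)) = ∑ χ : R →* kˣ, if χ g = 1 then 0 else mlt ρ R χ := by
    intro g
    rw [cod_eq_sum_mlt hc hR ((Subgroup.zpowers_le).2 g.2), Finset.sum_filter]
    refine Finset.sum_congr rfl fun χ _ => ?_
    have e : (∀ s : R, (s : Y) ∈ Subgroup.zpowers (g : Y) → χ s = 1) ↔ χ g = 1 := by
      refine ⟨fun h => h g (Subgroup.mem_zpowers _), fun h s ⟨i, hi⟩ => ?_⟩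
      rw [show s = g ^ i from Subtype.ext hi.symm, map_zpow, h, one_zpow]
    by_cases h : χ g = 1
    · rw [if_neg (not_not.2 (e.2 h)), if_pos h]
    · rw [if_pos (mt e.1 h), if_neg h]
  rw [Finset.sum_congr rfl fun g _ => h1 g, Finset.sum_comm, cod_eq_sum_mlt hc hR le_rfl, Finset.sum_filter,
    Finset.mul_sum, Finset.mul_sum]
  refine Finset.sum_congr rfl fun χ _ => ?_
  by_cases h : χ = 1
  · subst h
    simp
  · have h2 := card_fiber_char hr he h (ζ := 1) (one_pow r)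
    have h3 := Finset.card_filter_add_card_filter_not (s := (Finset.univ : Finset R)) fun g => χ g = 1
    rw [Finset.card_univ, ← Nat.card_eq_fintype_card] at h3
    rw [if_pos fun e => h (MonoidHom.ext fun s => e s s.2), Finset.sum_ite, Finset.sum_const_zero, zero_add,
      Finset.sum_const, smul_eq_mul, ← mul_assoc]
    congr 1
    obtain ⟨s, rfl⟩ := Nat.exists_eq_succ_of_ne_zero hr.ne_zero
    rw [Nat.succ_sub_one]
    rw [Nat.succ_eq_add_one] at h2 ⊢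
    nlinarith

/-- **averaging** over an elementary abelian `r`-group -/
theorem avg [Fintype R] [Finite Y] (hr : r.Prime) (hk : (r : k) ≠ 0)
    (hc : ∀ a ∈ R, ∀ b ∈ R, a * b = b * a) (he : ∀ g ∈ R, g ^ r = 1) :
    r * ∑ g : R, cod ρ (Subgroup.zpowers (g : Y)) = (r - 1) * Nat.card R * cod ρ R := by
  have := avg_closed (ρ := bc (AlgebraicClosure k) ρ) hr (card_ne_zero_closure hk) hc he
  simpa only [cod_bc] using this

theorem sum_cod_eq [Fintype R] [DecidableEq R] : ∑ g : R, cod ρ (Subgroup.zpowers (g : Y)) =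
    ∑ g ∈ Finset.univ.erase (1 : R), cod ρ (Subgroup.zpowers (g : Y)) := by
  rw [← Finset.sum_erase_add _ _ (Finset.mem_univ (1 : R)), OneMemClass.coe_one, Subgroup.zpowers_one_eq_bot, cod_bot,
    add_zero]

/-- all elements are expensive: the group is expensive -/
theorem avg_ge [Finite Y] (hr : r.Prime) (hk : (r : k) ≠ 0) (hc : ∀ a ∈ R, ∀ b ∈ R, a * b = b * a)
    (he : ∀ g ∈ R, g ^ r = 1) {c : ℕ} (h : ∀ g ∈ R, g ≠ 1 → c ≤ cod ρ (Subgroup.zpowers g)) :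
    r * ((Nat.card R - 1) * c) ≤ (r - 1) * Nat.card R * cod ρ R := by
  classical
  have : Fintype R := Fintype.ofFinite _
  rw [← avg hr hk hc he, sum_cod_eq]
  refine Nat.mul_le_mul_left _ ?_
  have := Finset.card_nsmul_le_sum (Finset.univ.erase (1 : R)) (fun g => cod ρ (Subgroup.zpowers (g : Y))) c
    fun g hg => h g g.2 fun e => (Finset.mem_erase.1 hg).1 (Subtype.ext e)
  rwa [Finset.card_erase_of_mem (Finset.mem_univ _), Finset.card_univ, ← Nat.card_eq_fintype_card] at this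

/-- all elements are cheap: the group is cheap -/
theorem avg_le [Finite Y] (hr : r.Prime) (hk : (r : k) ≠ 0) (hc : ∀ a ∈ R, ∀ b ∈ R, a * b = b * a)
    (he : ∀ g ∈ R, g ^ r = 1) {c : ℕ} (h : ∀ g ∈ R, g ≠ 1 → cod ρ (Subgroup.zpowers g) ≤ c) :
    (r - 1) * Nat.card R * cod ρ R ≤ r * ((Nat.card R - 1) * c) := by
  classical
  have : Fintype R := Fintype.ofFinite _
  rw [← avg hr hk hc he, sum_cod_eq]
  refine Nat.mul_le_mul_left _ ?_
  have := Finset.sum_le_card_nsmul (Finset.univ.erase (1 : R)) (fun g => cod ρ (Subgroup.zpowers (g : Y))) c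
    fun g hg => h g g.2 fun e => (Finset.mem_erase.1 hg).1 (Subtype.ext e)
  rwa [Finset.card_erase_of_mem (Finset.mem_univ _), Finset.card_univ, ← Nat.card_eq_fintype_card] at this

/-- the normaliser of `R` is transitive on the non-identity elements -/
def Tr (R : Subgroup Y) : Prop :=
  ∀ z ∈ R, z ≠ 1 → ∀ z' ∈ R, z' ≠ 1 → ∃ h ∈ Subgroup.normalizer (R : Set Y), h⁻¹ * z * h = z'

theorem trans_closed [IsAlgClosed k] (hr : r.Prime) (hk : (r : k) ≠ 0) (hc : ∀ a ∈ R, ∀ b ∈ R, a * b = b * a)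
    (he : ∀ g ∈ R, g ^ r = 1) (ht : Tr R) (hne : ∃ z ∈ R, ρ z ≠ 1) {m : ℕ}
    (hm : ∀ χ : R →* kˣ, χ ≠ 1 → 0 < mlt ρ R χ → m ≤ mlt ρ R χ) : (Nat.card R - 1) * m ≤ cod ρ R := by
  classical
  have : Fact r.Prime := ⟨hr⟩
  have := finite_char k R
  have : Fintype (R →* kˣ) := Fintype.ofFinite _
  have : Fintype R := Fintype.ofFinite _
  have hR : (Nat.card R : k) ≠ 0 := by
    obtain ⟨n, hn⟩ := (elemAb_isPGroup (elemAb_of hc he)).exists_card_eq
    rw [hn, Nat.cast_pow]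
    exact pow_ne_zero _ hk
  obtain ⟨z, hz, hz1⟩ := hne
  obtain ⟨χ₀, h0, h0'⟩ := exists_wt (ρ := ρ) hc hR (r := ⟨z, hz⟩) hz1
  have hz2 : z ≠ 1 := by rintro rfl; exact hz1 (map_one ρ)
  set ζ := χ₀ ⟨z, hz⟩
  have hζ : ζ ^ r = 1 := by rw [← map_pow, show (⟨z, hz⟩ : R) ^ r = 1 from Subtype.ext (he z hz), map_one]
  let X : Finset (R →* kˣ) := Finset.univ.filter fun χ => χ ≠ 1 ∧ 0 < mlt ρ R χ
  have hX : ∀ χ, χ ∈ X ↔ χ ≠ 1 ∧ 0 < mlt ρ R χ := fun χ => by simp [X]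
  let n : R → ℕ := fun g => (X.filter fun χ => χ g = ζ).card
  have h1 : ∀ g g' : R, g ≠ 1 → g' ≠ 1 → n g' ≤ n g := by
    intro g g' hg hg'
    obtain ⟨h, hh, e⟩ := ht g g.2 (fun e => hg (Subtype.ext e)) g' g'.2 fun e => hg' (Subtype.ext e)
    refine Finset.card_le_card_of_injOn (tw h hh) (fun χ hχ => ?_) (tw_injective hh).injOn
    obtain ⟨h2, h3⟩ := Finset.mem_filter.1 hχ
    obtain ⟨h4, h5⟩ := (hX χ).1 h2
    refine Finset.mem_filter.2 ⟨(hX _).2 ⟨fun e' => h4 (tw_injective hh (e'.trans ?_)), by rwa [mlt_tw]⟩, ?_⟩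
    · rfl
    · rw [tw_apply_of_eq hh χ e.symm, h3]
  have h2 : (∑ g, n g) * r = X.card * Nat.card R := by
    have : ∑ g, n g = ∑ χ ∈ X, (Finset.univ.filter fun g : R => χ g = ζ).card := by
      simp only [n, Finset.card_filter]
      exact Finset.sum_comm
    rw [this, Finset.sum_mul, Finset.sum_congr rfl fun χ hχ => card_fiber_char hr he ((hX χ).1 hχ).1 hζ,
      Finset.sum_const, smul_eq_mul]
  have h3 : n 1 = 0 := Finset.card_eq_zero.2 (Finset.filter_eq_empty_iff.2 fun χ _ e => h0 (by rw [← e, map_one]))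
  have hz3 : (⟨z, hz⟩ : R) ≠ 1 := fun e => hz2 (congrArg Subtype.val e)
  have h4 : ∑ g, n g = (Nat.card R - 1) * n ⟨z, hz⟩ := by
    rw [← Finset.sum_erase_add _ _ (Finset.mem_univ (1 : R)), h3, add_zero,
      Finset.sum_congr rfl fun g hg => le_antisymm (h1 _ g hz3 (Finset.mem_erase.1 hg).1)
        (h1 g _ (Finset.mem_erase.1 hg).1 hz3), Finset.sum_const, smul_eq_mul,
      Finset.card_erase_of_mem (Finset.mem_univ _), Finset.card_univ, ← Nat.card_eq_fintype_card]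
  have h5 : Nat.card R - 1 ∣ X.card := by
    have h6 : (Nat.card R - 1).Coprime (Nat.card R) := by
      obtain ⟨s, hs⟩ := Nat.exists_eq_succ_of_ne_zero (Nat.card_pos (α := R)).ne'
      rw [hs, Nat.succ_sub_one]
      exact (Nat.coprime_self_add_right.2 (Nat.coprime_one_right s))
    exact h6.dvd_of_dvd_mul_right ⟨n ⟨z, hz⟩ * r, by rw [← h2, h4, mul_assoc]⟩
  have h6 : 0 < X.card := Finset.card_pos.2 ⟨χ₀, (hX _).2 ⟨fun e => h0 (by rw [show ζ = χ₀ ⟨z, hz⟩ from rfl, e]; rfl), h0'⟩⟩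
  exact (Nat.mul_le_mul_right m (Nat.le_of_dvd h6 h5)).trans (card_mul_le_cod le_rfl X
    (fun χ hχ e => ((hX χ).1 hχ).1 (MonoidHom.ext fun s => e s s.2)) fun χ hχ => hm χ ((hX χ).1 hχ).1 ((hX χ).1 hχ).2)

omit [FiniteDimensional k V] [Finite R] in
theorem bc_ne_one (L : Type*) [Field L] [Algebra k L] {z : Y} (h : ρ z ≠ 1) : bc L ρ z ≠ 1 := fun e =>
  h (baseChange_injective L (by simpa only [bc_apply, LinearMap.baseChange_one] using e))

/-- **a transitive normaliser**: all non-trivial characters occur -/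
theorem trans_lb [Finite Y] (hr : r.Prime) (hk : (r : k) ≠ 0) (hc : ∀ a ∈ R, ∀ b ∈ R, a * b = b * a)
    (he : ∀ g ∈ R, g ^ r = 1) (ht : Tr R) (hne : ∃ z ∈ R, ρ z ≠ 1) : Nat.card R - 1 ≤ cod ρ R := by
  have := trans_closed (ρ := bc (AlgebraicClosure k) ρ) hr (card_ne_zero_closure hk) hc he ht
    (hne.imp fun z h => ⟨h.1, bc_ne_one _ h.2⟩) (m := 1) fun _ _ h => h
  rwa [mul_one, cod_bc] at this

/-- **Heisenberg groups** with a transitive normaliser of the centre -/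
theorem heis_lb [Finite Y] {Q : Subgroup Y} (hr : r.Prime) (hk : (r : k) ≠ 0) (hRQ : R ≤ Q)
    (hc : ∀ a ∈ Q, ∀ b ∈ R, a * b = b * a) (he : ∀ g ∈ R, g ^ r = 1) (hQ : ∀ a ∈ Q, ∀ b ∈ Q, ⁅a, b⁆ ∈ R)
    (hfull : ∀ t ∈ Q, t ∉ R → ∀ z ∈ R, ∃ y ∈ Q, ⁅t, y⁆ = z) (ht : Tr R) (hne : ∃ z ∈ R, ρ z ≠ 1) {m : ℕ}
    (hm : m ^ 2 ≤ R.relIndex Q) : (Nat.card R - 1) * m ≤ cod ρ R := by
  have := trans_closed (ρ := bc (AlgebraicClosure k) ρ) hr (card_ne_zero_closure hk) (fun a ha => hc a (hRQ ha)) he ht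
    (hne.imp fun z h => ⟨h.1, bc_ne_one _ h.2⟩) (m := m) fun χ hχ h => le_of_sq_le hm
      (relIndex_le_mlt_sq hc hQ h R fun t ht htR => by
        obtain ⟨z, hz⟩ : ∃ z, χ z ≠ 1 := by
          by_contra e
          push Not at e
          exact hχ (MonoidHom.ext e)
        obtain ⟨y, hy, e⟩ := hfull t ht htR z z.2
        exact ⟨y, hy, z, e.symm, hz⟩)
  rwa [cod_bc] at this

/-- the elements of a group with a transitive normaliser -/
theorem cod_elt_of_tr [Finite Y] (hr : r.Prime) (hk : (r : k) ≠ 0) (hc : ∀ a ∈ R, ∀ b ∈ R, a * b = b * a)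
    (he : ∀ g ∈ R, g ^ r = 1) (ht : Tr R) {z : Y} (hz : z ∈ R) (h1 : z ≠ 1) {m : ℕ}
    (hm : (Nat.card R - 1) * m ≤ cod ρ R) : (r - 1) * Nat.card R * m ≤ r * cod ρ (Subgroup.zpowers z) := by
  have h2 := avg_le (ρ := ρ) hr hk hc he (c := cod ρ (Subgroup.zpowers z)) fun g hg hg1 => by
    obtain ⟨h, -, e⟩ := ht z hz h1 g hg hg1
    rw [← e, ← cod_zpowers_conj h⁻¹ z, inv_inv]
  have h3 : 0 < Nat.card R - 1 := by
    have : 1 < Nat.card R := (Subgroup.one_lt_card_iff_ne_bot R).2 fun e => h1 (by rwa [e, Subgroup.mem_bot] at hz)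
    omega
  refine Nat.le_of_mul_le_mul_left ?_ h3
  calc (Nat.card R - 1) * ((r - 1) * Nat.card R * m) = (r - 1) * Nat.card R * ((Nat.card R - 1) * m) := by ring
    _ ≤ (r - 1) * Nat.card R * cod ρ R := Nat.mul_le_mul_left _ hm
    _ ≤ _ := h2
    _ = _ := by ring

end Chars

/-- an `s`-element `a` normalises the abelian group `R`, and `B` consists of commutators -/
theorem cod_comm_le [Finite Y] {R B : Subgroup Y} (hc : ∀ a ∈ R, ∀ b ∈ R, a * b = b * a) (hR : (Nat.card R : k) ≠ 0)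
    {a : Y} {s n : ℕ} [Fact s.Prime] (ha : a ^ s ^ n = 1) (hn : ∀ x ∈ R, a * x * a⁻¹ ∈ R)
    (hB : ∀ H : Subgroup Y, (∀ x ∈ R, a * x * a⁻¹ * x⁻¹ ∈ H) → B ≤ H) :
    (s - 1) * cod ρ B ≤ s * cod ρ (Subgroup.zpowers a) := by
  have h1 : a ∈ Subgroup.normalizer (R : Set Y) := Subgroup.mem_normalizer_fintype hn
  have h2 : IsPGroup s (Subgroup.zpowers a) := by
    obtain ⟨m, -, hm⟩ := (Nat.dvd_prime_pow Fact.out).1 (orderOf_dvd_of_pow_eq_one ha)
    exact IsPGroup.of_card (by rw [Nat.card_zpowers, hm])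
  refine le_trans (Nat.mul_le_mul_left _ (cod_mono (hB _ fun x hx => ?_)))
    (coprime_bound hc hR ((Subgroup.zpowers_le).2 h1) h2)
  rw [Subgroup.commutator_comm]
  exact Subgroup.commutator_mem_commutator (Subgroup.mem_zpowers a) hx

end Cfsg.Agent.TwoF.XL
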