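import Cfsg.Agent.H929.Gs.Row
import Cfsg.Agent.H915.Gs.RowTwo
import Cfsg.Agent.H974.Gs.RowFin
import Cfsg.Agent.H453.Gs.Main

/-!
# TwoF / XL: how many conjugates of an automorphism of prime order generate (helper1)

Extracted from the proof of `S4327`.
-/

set_option autoImplicit false

namespace Cfsg.Agent.TwoF.XL

open Cfsg Module Cfsg.Agent.H915.Gs

section Lin

open Cfsg.Agent.H199.PslAut (Psi)

variable {F : Type*} [Field F] [Fintype F] {n : ℕ}

theorem reach_L2 (h4 : 4 ≤ Fintype.card F) {x : MulAut (Matrix.ProjectiveSpecialLinearGroup (Fin 2) F)}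
    (hx : (orderOf x).Prime) : Reach x 5 ⊤ := reach_two h4 x hx

theorem reach_lin (hn : 3 ≤ n) {g : GL (Fin n) F} (hg : Psi n F g ≠ 1) : Reach (Psi n F g) (n + 1) ⊤ :=
  H974.Gs.reach_psi (H974.Gs.certs F) hn hg

theorem reach_nonlin (hn : 3 ≤ n) {x : MulAut (Matrix.ProjectiveSpecialLinearGroup (Fin n) F)}
    (hx : (orderOf x).Prime) : (∃ g : GL (Fin n) F, x = Psi n F g) ∨ Reach x 11 ⊤ := H453.Gs.nonlin hn x hx

theorem reach_L (hn : 3 ≤ n) (h10 : n ≤ 10) {x : MulAut (Matrix.ProjectiveSpecialLinearGroup (Fin n) F)}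
    (hx : (orderOf x).Prime) : Reach x 11 ⊤ := by
  rcases reach_nonlin hn hx with ⟨g, rfl⟩ | h
  · refine (reach_lin hn fun e => ?_).mono (by omega) (by omega)
    rw [e, orderOf_one] at hx
    exact Nat.not_prime_one hx
  · exact h

end Lin

section Uni

open Cfsg.Agent.H91.U Cfsg.Agent.H450.UF Cfsg.Agent.H937.Gs Cfsg.Agent.H929.Gs
open Cfsg.Agent.H405.Gs (TS Nd Tr)
open Cfsg.Agent.H519.Gs (Bad)
open Cfsg.Agent.H77.Witt (formB)
open Cfsg.Agent.LieClassical.HermBasic Cfsg.Agent.LieClassical.HermSiegel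

section

variable {F V : Type*} [Field F] [AddCommGroup V] [Module F V] {σ : F →+* F} {B : V →ₛₗ[σ] V →ₗ[F] F}
  {a : MulAut (SIso B)} {g : V → V} {τ : F →+* F}

theorem reach_bad [Fintype F] [FiniteDimensional F V] {q : ℕ} (hF : Fintype.card F = q ^ 2) (hB : HForm B)
    (hn : 3 ≤ finrank F V) (htop : TS B (⊤ : Submodule F V) = ⊤) (hb : Bad B a g) :
    4 ≤ finrank F V ∧ Reach a (finrank F V + 2) ⊤ := by
  have hfix := card_fix hF hB
  have hq2 : 2 ≤ q := two_le hF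
  have hcard : ∀ k : ℕ, q = k → Nat.card F = k ^ 2 := fun k hk => by rw [Nat.card_eq_fintype_card, hF, hk]
  have hn4 := hb.four_le hB hn
  have h6 : ∃ A : Submodule F V, Nd B A ∧ finrank F A = 4 ∧ Reach a 6 (TS B A) := by
    by_cases h4 : 4 ≤ q
    · exact hb.six hB hn (by rw [hfix]; exact h4)
    · rcases (show q = 2 ∨ q = 3 by omega) with h | h
      · exact bad2 hb hB hn4 (hcard 2 h)
      · exact bad3 hb hB hn4 (hcard 3 h)
  exact ⟨hn4, (hb.main hB hn h6 htop).2.2⟩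

theorem reach_good [Fintype F] [FiniteDimensional F V] {q : ℕ} (hF : Fintype.card F = q ^ 2) (hB : HForm B)
    (hn : 3 ≤ finrank F V) (h32 : ¬ (finrank F V = 3 ∧ q = 2)) (h42 : ¬ (finrank F V = 4 ∧ q = 2))
    (htop : TS B (⊤ : Submodule F V) = ⊤) (hs : Sim B a g τ) (hst : 4 ≤ q → q ≠ 5 → Start B a g) {v : V}
    (hv : B v v = 0) (hgv : B v (g v) ≠ 0) : Reach a (finrank F V + 1) ⊤ := by
  have hfix := card_fix hF hB
  have hq2 : 2 ≤ q := two_le hF
  have hcard : ∀ k : ℕ, q = k → Nat.card F = k ^ 2 := fun k hk => by rw [Nat.card_eq_fintype_card, hF, hk]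
  by_cases h2 : q = 2
  · exact top2 hs hB (hcard 2 h2) (by omega) hv hgv htop
  · by_cases h35 : q = 3 ∨ q = 5
    · refine top35 hs hB ?_ hn hv hgv
      rcases h35 with h | h
      · exact Or.inl (hcard 3 h)
      · exact Or.inr (hcard 5 h)
    · have hr := hst (by omega) (by omega) v hv hgv
      have hq : ∃ s : F, σ s = s ∧ s ≠ 0 ∧ s ≠ 1 := H519.Gs.exists_fixed_scalar (by rw [hfix]; omega)
      have h1 := H405.Gs.reach_top hB hs (surj_of_finite τ) hv hgv hq hr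
      rwa [show 3 + (finrank F V - 2) = finrank F V + 1 by omega] at h1

end

variable {F : Type} [Field F] [Fintype F] {n q : ℕ}

/-- `n + 1` conjugates, or `n + 2` conjugates for some involutions if `n ≥ 4` -/
theorem reach_U (hF : Fintype.card F = q ^ 2) (hn : 3 ≤ n) (h32 : ¬ (n = 3 ∧ q = 2)) (h42 : ¬ (n = 4 ∧ q = 2))
    {x : MulAut (PSU n F q)} (hx : (orderOf x).Prime) :
    Reach x (n + 1) ⊤ ∨ (orderOf x = 2 ∧ 4 ≤ n ∧ Reach x (n + 2) ⊤) := by
  have hfr : finrank F (Fin n → F) = n := finrank_fin_fun F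
  have : NeZero n := ⟨by omega⟩
  obtain ⟨a, g, θ, h1, h3, h4, h5, h6, h7⟩ := conv hF hn h32 x
  have hB := hform hF n
  have hσ : ∀ c, ((conj hF : F ≃+* F) : F →+* F) c = c ^ q := fun c => rfl
  have hsim : Sim (formB hF n) a g (θ : F →+* F) := ⟨h3, h4, g.surjective, h5, h6⟩
  have htop := H405.Gs.TS_std_top hF h32
  have htyp : Typ ((conj hF : F ≃+* F) : F →+* F) g (θ : F →+* F) := by
    rcases h7 hx with ⟨e1, e2⟩ | ⟨e1, e2⟩ | ⟨e1, e2, s, e3, e4⟩
    · exact Or.inl ⟨fun c => by rw [e1]; rfl, e2⟩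
    · exact Or.inr (Or.inl fun c => by rw [hσ]; exact e1 c)
    · right; right
      obtain ⟨m, hm⟩ := hx.odd_of_ne_two e2
      refine ⟨⟨m, fun c => ?_⟩, s, by rw [hσ]; exact e3, e4⟩
      rw [iterate_eq, ← hm, ← e1, pow_orderOf_eq_one]
      rfl
  have good : ∀ v, formB hF n v v = 0 → formB hF n v (g v) ≠ 0 → Reach x (n + 1) ⊤ := fun v hv hgv => by
    have h := reach_good hF hB (by rw [hfr]; exact hn) (by rw [hfr]; exact h32) (by rw [hfr]; exact h42) htop hsim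
      (fun h4 h5 v hv hgv => by
        obtain ⟨m, hm⟩ := htyp.oddFix
        exact H405.Gs.start4 hF h4 h5 hB hsim hv hgv (n := 2 * m + 1) ⟨m, rfl⟩ hm) hv hgv
    rw [hfr] at h
    exact h.transfer_top (H450.UF.pi_surjective hF n) h1
  rcases h7 hx with ⟨e1, e2⟩ | ⟨e1, e2⟩ | ⟨e1, e2, s, e3, e4⟩
  · obtain ⟨v, hv, hgv⟩ := exists_iso_lin hB (by omega) hsim.add (fun c x => by rw [hsim.smul, e1]; rfl) e2
    exact Or.inl (good v hv hgv)
  · rcases htyp.bad_or hB (by omega) hsim with hb | ⟨v, hv, hgv⟩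
    · have h := reach_bad hF hB (by omega) htop hb
      rw [hfr] at h
      exact Or.inr ⟨e2, h.1, h.2.transfer_top (H450.UF.pi_surjective hF n) h1⟩
    · exact Or.inl (good v hv hgv)
  · obtain ⟨v, hv, hgv⟩ := exists_iso_semi hB (by omega) hsim.add hsim.smul hsim.surj ⟨s, by rw [hσ]; exact e3, e4⟩
    exact Or.inl (good v hv hgv)

theorem reach_U' (hF : Fintype.card F = q ^ 2) (hn : 3 ≤ n) (h32 : ¬ (n = 3 ∧ q = 2)) (h42 : ¬ (n = 4 ∧ q = 2))
    {x : MulAut (PSU n F q)} (hx : (orderOf x).Prime) : Reach x (n + 2) ⊤ := by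
  rcases reach_U hF hn h32 h42 hx with h | h
  · exact h.mono (by omega) (by omega)
  · exact h.2.2

theorem reach_U3 (hF : Fintype.card F = q ^ 2) (h2 : q ≠ 2) {x : MulAut (PSU 3 F q)} (hx : (orderOf x).Prime) :
    Reach x 4 ⊤ := by
  rcases reach_U hF le_rfl (fun h => h2 h.2) (by omega) hx with h | h
  · exact h
  · omega

theorem reach_U_odd (hF : Fintype.card F = q ^ 2) (hn : 3 ≤ n) (h32 : ¬ (n = 3 ∧ q = 2)) (h42 : ¬ (n = 4 ∧ q = 2))
    {x : MulAut (PSU n F q)} (hx : (orderOf x).Prime) (h2 : orderOf x ≠ 2) : Reach x (n + 1) ⊤ :=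
  (reach_U hF hn h32 h42 hx).resolve_right fun h => h2 h.1

end Uni

end Cfsg.Agent.TwoF.XL
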