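import Cfsg.Agent.TwoF.XL.Fac
import Cfsg.Agent.TwoF.XE.Wt
import Cfsg.Agent.H199.PslAut

/-!
# TwoF / XL: transvections and linear automorphisms of `PSL_n(q)`, `n ≥ 3` (helper1)
-/

set_option autoImplicit false

namespace Cfsg.Agent.TwoF.XL

open Module Gen XE Subgroup Matrix
open Cfsg.Agent.ClassicalGeometry.AutPSL.Root Cfsg.Agent.ClassicalGeometry.AutPSL.Auto
open Cfsg.Agent.H199.PslAut (Psi Psi_pr)

variable {F : Type} [Field F] {n : ℕ}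

theorem tr_congr {a φ b ψ : Fin n → F} {h : φ ⬝ᵥ a = 0} (h' : ψ ⬝ᵥ b = 0) (e : vecMulVec a φ = vecMulVec b ψ) :
    tr a φ h = tr b ψ h' := tr_eq_iff.2 e

theorem sl_one_mulVec (x : Fin n → F) : (1 : SLn n F).1 *ᵥ x = x := one_mulVec x

theorem tr_zero (φ : Fin n → F) (h : φ ⬝ᵥ 0 = 0) : tr 0 φ h = 1 :=
  sl_ext fun x => by rw [tr_mulVec, smul_zero, add_zero, sl_one_mulVec]

theorem tr_inv (a φ : Fin n → F) (h : φ ⬝ᵥ a = 0) : (tr a φ h)⁻¹ = tr (-a) φ (by rw [dotProduct_neg, h, neg_zero]) := by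
  rw [inv_eq_iff_mul_eq_one, tr_mul_same_axis]
  exact (tr_congr (dotProduct_zero φ) (by rw [add_neg_cancel])).trans (tr_zero _ _)

theorem tr_pow (a φ : Fin n → F) (h : φ ⬝ᵥ a = 0) (j : ℕ) :
    tr a φ h ^ j = tr ((j : F) • a) φ (by rw [dotProduct_smul, h, smul_zero]) := by
  induction j with
  | zero => exact (pow_zero _).trans ((tr_congr (dotProduct_zero φ) (by rw [Nat.cast_zero, zero_smul])).trans
      (tr_zero _ _)).symm
  | succ j ih =>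
    rw [pow_succ, ih, tr_mul_same_axis]
    exact tr_congr _ (by rw [Nat.cast_succ, add_smul, one_smul])

theorem exists_dot_one {φ : Fin n → F} (hφ : φ ≠ 0) : ∃ x, φ ⬝ᵥ x = 1 := by
  obtain ⟨i, hi⟩ := Function.ne_iff.1 hφ
  exact ⟨Pi.single i (φ i)⁻¹, by rw [dotProduct_single, mul_inv_cancel₀ hi]⟩

theorem tr_inj {a b φ : Fin n → F} (hφ : φ ≠ 0) {h : φ ⬝ᵥ a = 0} {h' : φ ⬝ᵥ b = 0} (e : tr a φ h = tr b φ h') :
    a = b := by
  obtain ⟨x, hx⟩ := exists_dot_one hφ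
  have h1 := congrArg (fun g : SLn n F => (g : Matrix (Fin n) (Fin n) F) *ᵥ x) e
  simpa only [tr_mulVec, hx, one_smul, add_right_inj] using h1

theorem eq_zero_of_pr_tr {a φ : Fin n → F} (hφ : φ ≠ 0) {h : φ ⬝ᵥ a = 0} (e : pr (tr a φ h) = 1) : a = 0 :=
  tr_inj hφ (tr_eq_of_pr_eq (h' := dotProduct_zero φ) (by rw [e, tr_zero, map_one]))

theorem sl_conj_tr (g : SLn n F) (a φ : Fin n → F) (h : φ ⬝ᵥ a = 0) {b ψ : Fin n → F} (h' : ψ ⬝ᵥ b = 0)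
    (e1 : g.1 *ᵥ a = b) (e2 : φ ᵥ* (g⁻¹).1 = ψ) : g * tr a φ h * g⁻¹ = tr b ψ h' :=
  sl_ext fun x => by
    rw [sl_mul_mulVec, sl_mul_mulVec, tr_mulVec, tr_mulVec, mulVec_add, mulVec_smul, ← sl_mul_mulVec, mul_inv_cancel,
      sl_one_mulVec, dotProduct_mulVec, e1, e2]

/-- the transvections with axis `φ` and centre in `W` -/
def Ax (φ : Fin n → F) (W : Submodule F (Fin n → F)) : Subgroup (SLn n F) where
  carrier := {g | ∃ a ∈ W, ∃ h : φ ⬝ᵥ a = 0, g = tr a φ h}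
  one_mem' := ⟨0, zero_mem W, dotProduct_zero φ, (tr_zero _ _).symm⟩
  mul_mem' := by
    rintro _ _ ⟨a, ha, h, rfl⟩ ⟨b, hb, h', rfl⟩
    exact ⟨_, add_mem ha hb, _, tr_mul_same_axis _ _ _ h h'⟩
  inv_mem' := by
    rintro _ ⟨a, ha, h, rfl⟩
    exact ⟨_, neg_mem ha, _, tr_inv _ _ h⟩

theorem Ax_comm {φ : Fin n → F} {W : Submodule F (Fin n → F)} : ∀ a ∈ Ax φ W, ∀ b ∈ Ax φ W, a * b = b * a := by
  rintro _ ⟨a, -, h, rfl⟩ _ ⟨b, -, h', rfl⟩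
  rw [tr_mul_same_axis, tr_mul_same_axis]
  exact tr_congr _ (by rw [add_comm])

theorem Ax_pow {φ : Fin n → F} {W : Submodule F (Fin n → F)} (r : ℕ) [CharP F r] : ∀ a ∈ Ax φ W, a ^ r = 1 := by
  rintro _ ⟨a, -, h, rfl⟩
  rw [tr_pow]
  exact (tr_congr (dotProduct_zero φ) (by rw [CharP.cast_eq_zero, zero_smul])).trans (tr_zero _ _)

theorem card_Ax {φ : Fin n → F} (hφ : φ ≠ 0) {W : Submodule F (Fin n → F)} (hW : ∀ a ∈ W, φ ⬝ᵥ a = 0) :
    Nat.card (Ax φ W) = Nat.card W :=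
  (Nat.card_congr (Equiv.ofBijective (fun a : W => (⟨tr a φ (hW a a.2), a, a.2, _, rfl⟩ : Ax φ W))
    ⟨fun a b e => Subtype.ext (tr_inj hφ (h := hW a a.2) (h' := hW b b.2) (congrArg Subtype.val e)), by
      rintro ⟨_, a, ha, h, rfl⟩
      exact ⟨⟨a, ha⟩, rfl⟩⟩)).symm

variable [Fintype F]

section Rep

variable {k : Type*} [Field k] {V : Type*} [AddCommGroup V] [Module k V] [FiniteDimensional k V]
  {σ : Representation k (SLn n F) V} {r : ℕ}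

/-- **transvections** -/
theorem cod_tr (hn : 3 ≤ n) (hr : r.Prime) [CharP F r] (hk : (r : k) ≠ 0) (hσ : ∀ g, σ g = 1 → g ∈ center (SLn n F))
    {a φ : Fin n → F} (h : φ ⬝ᵥ a = 0) (ha : a ≠ 0) (hφ : φ ≠ 0) :
    (r - 1) * Fintype.card F ^ (n - 1) ≤ r * cod σ (zpowers (tr a φ h)) := by
  have h3 : 3 ≤ Fintype.card (Fin n) := by rwa [Fintype.card_fin]
  have ht : Tr (Ax φ (H912.Bd.kr φ)) := by
    rintro _ ⟨u, hu, h, rfl⟩ h0 _ ⟨v, hv, h', rfl⟩ h0'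
    obtain ⟨g, g1, g2⟩ := H912.Bd.exists_sl_fix (H912.Bd.kr φ) (fun _ h => h)
      (fun v _ hv => H912.Bd.exists_np_kr h3 hφ hv) hu hv (by rintro rfl; exact h0 (tr_zero _ _))
      (by rintro rfl; exact h0' (tr_zero _ _))
    refine ⟨g⁻¹, inv_mem (mem_normalizer_fintype ?_), by rw [inv_inv]; exact sl_conj_tr g _ _ _ _ g1 g2⟩
    rintro _ ⟨w, -, hw, rfl⟩
    have h1 : φ ⬝ᵥ g.1 *ᵥ w = 0 := by
      rw [← g2, ← dotProduct_mulVec, ← sl_mul_mulVec, inv_mul_cancel, sl_one_mulVec, hw]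
    exact ⟨_, h1, h1, sl_conj_tr g _ _ _ _ rfl g2⟩
  have hz : tr a φ h ∈ Ax φ (H912.Bd.kr φ) := ⟨a, h, h, rfl⟩
  have h1 := cod_elt_of_tr (ρ := σ) hr hk Ax_comm (Ax_pow r) ht hz
    (fun e => ha (eq_zero_of_pr_tr hφ (by rw [e, map_one]))) (m := 1) (by
      rw [mul_one]
      exact trans_lb hr hk Ax_comm (Ax_pow r) ht ⟨_, hz, fun e => ha (eq_zero_of_pr_tr hφ ((pr_eq_one_iff _).2 (hσ _ e)))⟩)
  rwa [mul_one, card_Ax hφ fun _ h => h, H912.Bd.card_kr hφ, Fintype.card_fin] at h1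

/-- **groups of transvections** -/
theorem cod_Ax (hn : 3 ≤ n) (hr : r.Prime) [CharP F r] (hk : (r : k) ≠ 0) (hσ : ∀ g, σ g = 1 → g ∈ center (SLn n F))
    {φ : Fin n → F} (hφ : φ ≠ 0) {W : Submodule F (Fin n → F)} (hW : ∀ a ∈ W, φ ⬝ᵥ a = 0) :
    (Nat.card W - 1) * Fintype.card F ^ (n - 1) ≤ Nat.card W * cod σ (Ax φ W) := by
  obtain ⟨f, -, hf⟩ := FiniteField.card F r
  obtain ⟨c, hc⟩ : r ∣ Fintype.card F ^ (n - 1) := dvd_pow (hf ▸ dvd_pow_self r f.pos.ne') (by omega)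
  have h1 := avg_ge (ρ := σ) (R := Ax φ W) hr hk Ax_comm (Ax_pow r) (c := (r - 1) * c) (by
    rintro _ ⟨a, -, h, rfl⟩ h0
    have h2 := cod_tr hn hr hk hσ h (by rintro rfl; exact h0 (tr_zero _ _)) hφ
    rw [hc, mul_left_comm] at h2
    exact Nat.le_of_mul_le_mul_left h2 hr.pos)
  rw [card_Ax hφ hW] at h1
  refine Nat.le_of_mul_le_mul_left ?_ (Nat.sub_pos_of_lt hr.one_lt)
  rw [hc, ← mul_assoc (r - 1) (Nat.card W)]
  exact le_trans (le_of_eq (by ring)) h1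

end Rep

variable {p : ℕ} [Fact p.Prime] {r c : ℕ}

omit [Fact p.Prime] in
theorem zcL (hn : 3 ≤ n) (he : ¬ ExL n (Fintype.card F)) : Zc p (PL n F) (Nat.gcd n (Fintype.card F - 1)) :=
  zc_of_cyclic (S2086.result rfl n (by omega) (by omega) he)

theorem coprime_zL (hr : r.Prime) [CharP F r] : r.Coprime (Nat.gcd n (Fintype.card F - 1)) := by
  obtain ⟨f, -, hf⟩ := FiniteField.card F r
  rw [hf]
  exact (gcd_coprime f.pos hr).symm

/-- bounds in the lift of `SL_n` -/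
theorem lo_of_sl (hn : 3 ≤ n) (he : ¬ ExL n (Fintype.card F)) (hr : r.Prime) [CharP F r] {B : Subgroup (SLn n F)}
    (hB : ∀ b ∈ B, b ^ r = 1)
    (h : ∀ (V : Type) [AddCommGroup V] [Module (ZMod p) V] [Finite V] (σ : Representation (ZMod p) (SLn n F) V),
      (∀ g, σ g = 1 → g ∈ center (SLn n F)) → c ≤ cod σ B) : Lo p ((B.map pr).map MulAut.conj) c :=
  fun _ _ _ V _ _ _ _ ρ _ _ H A hA => by
    obtain ⟨ι, L⟩ := exists_lfL H (by omega) (by omega) he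
    refine (h V (ρ.comp ι) (L.cenL H)).trans ?_
    rw [cod_comp]
    refine cod_mono ?_
    rintro _ ⟨b, hb, rfl⟩
    obtain ⟨y, hy, e⟩ := hA ⟨_, ⟨b, hb, rfl⟩, rfl⟩
    obtain ⟨u, hu, e1, e2⟩ := (zcL hn he).exists_lift H (coprime_zL hr) (y := y)
      (by rw [e, ← map_pow, ← map_pow, hB b hb, map_one, map_one])
    rw [← (zcL hn he).lift_unique H (coprime_zL hr) (by rw [e1, e]; exact ⟨_, rfl⟩)
      (e1.trans (e.trans (L.φ_ι H.toFrm b).symm)) e2 (by rw [← map_pow, hB b hb, map_one])]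
    exact zpowers_le.2 hy hu

theorem li_of_sl (hn : 3 ≤ n) (he : ¬ ExL n (Fintype.card F)) (hr : r.Prime) [CharP F r] {b : SLn n F} (hb : b ^ r = 1)
    (h : ∀ (V : Type) [AddCommGroup V] [Module (ZMod p) V] [Finite V] (σ : Representation (ZMod p) (SLn n F) V),
      (∀ g, σ g = 1 → g ∈ center (SLn n F)) → c ≤ cod σ (zpowers b)) : Li p (pr b) c := by
  have := Fact.mk hr
  have h1 := lo_of_sl hn he hr (elemAb_zpowers hb).2 h
  rwa [MonoidHom.map_zpowers, MonoidHom.map_zpowers] at h1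

theorem le_of_mul {a b c m : ℕ} (h : a ≤ b * m) (hc : b * (c - 1) < a) : c ≤ m := by
  by_contra e
  exact absurd (h.trans (Nat.mul_le_mul_left b (Nat.le_sub_one_of_lt (not_le.1 e)))) (not_le.2 hc)

variable (hn : 3 ≤ n) (he : ¬ ExL n (Fintype.card F)) (hr : r.Prime) [CharP F r] (hrp : r ≠ p)
include hn he hr hrp

theorem li_tr {a φ : Fin n → F} (h : φ ⬝ᵥ a = 0) (ha : a ≠ 0) (hφ : φ ≠ 0)
    (hc : r * (c - 1) < (r - 1) * Fintype.card F ^ (n - 1)) : Li p (pr (tr a φ h)) c :=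
  li_of_sl hn he hr (Ax_pow r _ ⟨a, Submodule.mem_top, h, rfl⟩) fun _ _ _ _ _ hσ =>
    le_of_mul (cod_tr hn hr (cast_ne_zero hr hrp) hσ h ha hφ) hc

theorem lo_Ax {φ : Fin n → F} (hφ : φ ≠ 0) {W : Submodule F (Fin n → F)} (hW : ∀ a ∈ W, φ ⬝ᵥ a = 0)
    (hc : Nat.card W * (c - 1) < (Nat.card W - 1) * Fintype.card F ^ (n - 1)) :
    Lo p (((Ax φ W).map pr).map MulAut.conj) c :=
  lo_of_sl hn he hr (Ax_pow r) fun _ _ _ _ _ hσ => le_of_mul (cod_Ax hn hr (cast_ne_zero hr hrp) hσ hφ hW) hc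

omit [Fintype F] hn he hr hrp in
theorem Psi_tr (C : GL (Fin n) F) {φ : Fin n → F} {l : F} (hl : φ ᵥ* (C⁻¹).1 = l • φ) {a : Fin n → F}
    (h : φ ⬝ᵥ a = 0) : ∃ h', Psi n F C (pr (tr a φ h)) = pr (tr (l • C.1 *ᵥ a) φ h') := by
  have h1 := vecMul_inv_dotProduct C a φ
  rw [h, hl, smul_dotProduct, ← dotProduct_smul] at h1
  refine ⟨h1, ?_⟩
  rw [Psi_pr, cj_tr]
  exact congrArg pr (tr_congr _ (by rw [hl, vecMulVec_smul, smul_vecMulVec]))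

/-- **linear automorphisms with an eigenvector** -/
theorem le_lin {t j : ℕ} [Fact t.Prime] (htr : t ≠ r) {C : GL (Fin n) F} (h1 : Psi n F C ≠ 1)
    (h2 : Psi n F C ^ t ^ j = 1) {φ : Fin n → F} (hφ : φ ≠ 0) {l : F} (hl : φ ᵥ* (C⁻¹).1 = l • φ) {m : ℕ}
    (hm : r * (m - 1) < (r - 1) * Fintype.card F ^ (n - 1)) (hc : t * (c - 1) < (t - 1) * m) : Le p (Psi n F C) c := by
  obtain ⟨a, h, ha⟩ : ∃ a, φ ⬝ᵥ a = 0 ∧ l • C.1 *ᵥ a ≠ a := by
    by_contra e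
    push Not at e
    obtain ⟨x, hx⟩ := exists_dot_one hφ
    have l0 : l ≠ 0 := by
      rintro rfl
      apply hφ
      rw [← vecMul_one φ, ← Units.val_one, ← inv_mul_cancel C, Units.val_mul, ← vecMul_vecMul, hl, zero_smul,
        zero_vecMul]
    have h3 : φ ⬝ᵥ (l • C.1 *ᵥ x - x) = 0 := by
      rw [dotProduct_sub, dotProduct_smul, ← smul_dotProduct, ← hl, vecMul_inv_dotProduct, sub_self]
    have h4 : Psi n F C = MulAut.conj (pr (tr _ φ h3)) := by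
      rw [← H199.PslAut.Psi_coe, H199.PslAut.Psi_eq_Psi_iff (by omega)]
      refine ⟨(Units.mk0 l l0)⁻¹, Units.ext ?_⟩
      rw [Units.val_mul, H199.PslAut.coe_scal, scalar_apply, ← smul_one_eq_diagonal, smul_mul_assoc, Matrix.one_mul,
        Units.val_inv_eq_inv_val, Units.val_mk0, eq_inv_smul_iff₀ l0]
      refine toLin'.injective (LinearMap.ext fun v => ?_)
      have h5 := e (v - (φ ⬝ᵥ v) • x) (by rw [dotProduct_sub, dotProduct_smul, hx, smul_eq_mul, mul_one, sub_self])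
      rw [mulVec_sub, mulVec_smul] at h5
      rw [toLin'_apply, toLin'_apply, smul_mulVec]
      refine Eq.trans ?_ (tr_mulVec _ φ h3 v).symm
      linear_combination (norm := module) h5
    have h5 : Psi n F C ^ r = 1 := by
      rw [h4, ← map_pow, ← map_pow, Ax_pow r _ ⟨_, Submodule.mem_top, h3, rfl⟩, map_one, map_one]
    have h6 := pow_gcd_eq_one.2 ⟨h2, h5⟩
    rw [(((Nat.coprime_primes Fact.out hr).2 htr).pow_left j), pow_one] at h6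
    exact h1 h6
  refine Le.of_cop (zcL hn he) (coprime_zL hr) ((Nat.coprime_primes hr Fact.out).2 hrp) (P := (Ax φ ⊤).map pr) ?_ ?_ h2
    ?_ ⟨_, ⟨a, Submodule.mem_top, h, rfl⟩, rfl⟩ ?_ hc
  · rintro _ ⟨a, ha, rfl⟩ _ ⟨b, hb, rfl⟩
    rw [← map_mul, ← map_mul, Ax_comm a ha b hb]
  · rintro _ ⟨a, ha, rfl⟩
    rw [← map_pow, Ax_pow r a ha, map_one]
  · rintro _ ⟨_, ⟨b, -, hb, rfl⟩, rfl⟩
    obtain ⟨h', e⟩ := Psi_tr C hl hb
    exact ⟨_, ⟨_, Submodule.mem_top, h', rfl⟩, e.symm⟩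
  · obtain ⟨h', e⟩ := Psi_tr C hl h
    rw [e, ← map_inv, ← map_mul, tr_inv, tr_mul_same_axis]
    exact li_tr hn he hr hrp _ (by rwa [← sub_eq_add_neg, sub_ne_zero]) hφ hm

end Cfsg.Agent.TwoF.XL
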